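import Cfsg.Agent.Spor.Tia.L.D0

set_option autoImplicit false
set_option maxRecDepth 100000000
set_option Elab.async false

namespace Cfsg.Agent.Spor.Tia.L

theorem uok3 : Net.okb 11 un3 = true := by decide +kernel

theorem rel3 : U.rel 11 [7, 5, 4, 6, 4, 5, 4, 6, 4, 5, 4, 6, 4, 5, 4, 6, 4] 0 11 = true := by decide +kernel

theorem rel4 : U.rel 11 [8, 4, 7, 3] 0 11 = true := by decide +kernel

theorem rel5 : U.rel 11 [8, 6, 7, 5] 0 11 = true := by decide +kernel

theorem gr7 : sub M6 (U.growI W1 [0, 2, 2, 1, 0, 1, 2, 2, 1, 0, 1, 2, 2, 1, 0, 1, 2, 2, 1, 0, 1, 2, 2] (Nat.shiftLeft 1 0)) = true := by decide +kernel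

theorem cl9 : band (U.closedW W1 M6) (sub (Nat.shiftLeft 1 0) M6) = true := by decide +kernel

theorem sz10 : sizeOk 11 M6 1755 = true := by decide +kernel

theorem fx12 : U.closedW W2 (Nat.shiftLeft 1 0) = true := by decide +kernel

theorem uok4 : Net.okb 11 un4 = true := by decide +kernel

theorem rel13 : U.rel 11 [9, 5, 3, 5, 5, 3, 5, 5, 3, 3, 5, 3, 3, 5, 5, 5, 5, 5, 5, 5, 5, 5, 5, 3, 5, 5, 5, 3, 3, 5, 3] 0 11 = true := by decide +kernel

theorem uok5 : Net.okb 11 un5 = true := by decide +kernel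

theorem rel14 : U.rel 11 [11, 5, 5, 3, 5, 5, 3, 3, 5, 5, 3, 5, 3, 3, 5, 3, 5, 3, 3, 5, 5, 5, 5, 5, 5, 5, 3, 3, 5, 5, 5, 5, 3, 5, 3, 3] 0 11 = true := by decide +kernel

theorem gr16 : sub M15 (U.growI W2 [0, 1, 1, 0, 0, 1, 1, 0, 0, 1, 1, 0, 0, 1, 1, 0, 0, 1, 1, 0] (Nat.shiftLeft 1 113)) = true := by decide +kernel

theorem cl18 : band (U.closedW W2 M15) (sub (Nat.shiftLeft 1 113) M15) = true := by decide +kernel

theorem sz19 : sizeOk 11 M15 1024 = true := by decide +kernel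

theorem fx22 : U.closedW W21 (Nat.shiftLeft 1 113) = true := by decide +kernel

theorem gr24 : sub M23 (U.growI W21 [0, 1, 0, 1, 0] (Nat.shiftLeft 1 24)) = true := by decide +kernel

theorem cl26 : band (U.closedW W21 M23) (sub (Nat.shiftLeft 1 24) M23) = true := by decide +kernel

theorem sz27 : sizeOk 11 M23 10 = true := by decide +kernel

end Cfsg.Agent.Spor.Tia.L
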