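import Cfsg.Agent.Spor.Prim
import Cfsg.Agent.Spor.Tia.Main
import Cfsg.Agent.Spor.Tia.L.C0
import Cfsg.Agent.Spor.TT2

set_option autoImplicit false
set_option maxRecDepth 100000000
set_option Elab.async false

namespace Cfsg.Agent.Spor.Tia.L

theorem hU : U.Ok 11 := U.ok_of 11 (show AllP (fun n => Net.okb 11 n = true) [n0, n1, n2, un3, un4, un5] from AllP.cons ok0 (AllP.cons ok1 (AllP.cons ok2 (AllP.cons uok3 (AllP.cons uok4 (AllP.cons uok5 (AllP.nil)))))))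

theorem hfP : ∀ j < 3, U.fP [1, 3, 5] j = fP j := by
  intro j hj
  interval_cases j <;> rfl
theorem eG : gsub 3 fP = U.lsub W1 := (gsub_congr hfP).symm.trans (lsub_eq_gsub U [1, 3, 5])
theorem upz1 : ev (atm 3 fP) [0] = U.τ 1 := pz1
theorem upz3 : ev (atm 3 fP) [2] = U.τ 3 := pz2
theorem upz5 : ev (atm 3 fP) [4] = U.τ 5 := pz3
theorem eH : wsub 3 fP BW = U.lsub W2 :=
  lsub_eq_of_all₂ (show List.Forall₂ _ [[2], [4]] [[3], [5]] from List.Forall₂.cons (upz3.trans (one_mul _).symm) (List.Forall₂.cons (upz5.trans (one_mul _).symm) (List.Forall₂.nil)))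
theorem vpz1 : PZ U (atm 3 fP) EXU 1 := pz1
theorem vpz2 : PZ U (atm 3 fP) EXU 2 := PZ.of_inv hiv vpz1 (by decide +kernel)
theorem vpz3 : PZ U (atm 3 fP) EXU 3 := pz2
theorem vpz4 : PZ U (atm 3 fP) EXU 4 := PZ.of_inv hiv vpz3 (by decide +kernel)
theorem vpz5 : PZ U (atm 3 fP) EXU 5 := pz3
theorem vpz6 : PZ U (atm 3 fP) EXU 6 := PZ.of_inv hiv vpz5 (by decide +kernel)
theorem vpz7 : PZ U (atm 3 fP) EXU 7 := PZ.of_def hiv (d := [5, 4, 6, 4, 5, 4, 6, 4, 5, 4, 6, 4, 5, 4, 6, 4]) (AllP.cons vpz5 (AllP.cons vpz4 (AllP.cons vpz6 (AllP.cons vpz4 (AllP.cons vpz5 (AllP.cons vpz4 (AllP.cons vpz6 (AllP.cons vpz4 (AllP.cons vpz5 (AllP.cons vpz4 (AllP.cons vpz6 (AllP.cons vpz4 (AllP.cons vpz5 (AllP.cons vpz4 (AllP.cons vpz6 (AllP.cons vpz4 (AllP.nil))))))))))))))))) (hU.one rel3) (by decide +kernel)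
theorem vpz8 : PZ U (atm 3 fP) EXU 8 := PZ.of_inv hiv vpz7 (by decide +kernel)
theorem hPZU : AllP (PZ U (atm 3 fP) EXU) LU :=
  show AllP (PZ U (atm 3 fP) EXU) [1, 2, 3, 4, 5, 6, 7, 8] from AllP.cons vpz1 (AllP.cons vpz2 (AllP.cons vpz3 (AllP.cons vpz4 (AllP.cons vpz5 (AllP.cons vpz6 (AllP.cons vpz7 (AllP.cons vpz8 (AllP.nil))))))))
theorem hXN : ∀ l ∈ XN, ev (atm 3 fP) l = 1 :=
  relAll_sound hiv (W := [[8, 4, 7, 3], [8, 6, 7, 5]]) (rules := [⟨[8, 4, 7, 3], [], 0, true⟩, ⟨[8, 6, 7, 5], [], 1, true⟩]) hPZU (AllP.cons (hU.one rel4) (AllP.cons (hU.one rel5) (AllP.nil))) (by decide +kernel)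
theorem reach8 : Reach (U.lsub W1) 0 M6 := (Reach.grow hU (Reach.base _ 0) gr7)
theorem orb11 : (orbS (U.lsub W1) 0).ncard = 1755 := reach8.ncard hU cl9 sz10
theorem orb11e : orbS (U.lsub W1) 0 = {c | Nat.testBit M6 c = true} := reach8.orb hU cl9
theorem reach17 : Reach (U.lsub W2) 113 M15 := (Reach.grow hU (Reach.base _ 113) gr16)
theorem orb20 : (orbS (U.lsub W2) 113).ncard = 1024 := reach17.ncard hU cl18 sz19
theorem orb20e : orbS (U.lsub W2) 113 = {c | Nat.testBit M15 c = true} := reach17.orb hU cl18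
theorem reach25 : Reach (U.lsub W21) 24 M23 := (Reach.grow hU (Reach.base _ 24) gr24)
theorem orb28 : (orbS (U.lsub W21) 24).ncard = 10 := reach25.ncard hU cl26 sz27
theorem orb28e : orbS (U.lsub W21) 24 = {c | Nat.testBit M23 c = true} := reach25.orb hU cl26
theorem lb29 : 10 ∣ Nat.card (U.lsub W21) := dvd_card_orb orb28
theorem lb30 : 10240 ∣ Nat.card (U.lsub W2) :=
  dvd_card_step (s := 1024) (M := 10) (B := U.lsub W21) (Tab.lsub_le_all (AllP.cons (mem_of_rel (hU.one rel13) (U.mem_letters (by decide))) (AllP.cons (mem_of_rel (hU.one rel14) (U.mem_letters (by decide))) (AllP.nil)))) (hU.fixes fx22) orb20 lb29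
theorem lb : 17971200 ∣ Nat.card (U.lsub W1) :=
  dvd_card_step (s := 1755) (M := 10240) (B := U.lsub W2) (U.lsub_sub (by decide)) (hU.fixes fx12) orb11 lb30

end Cfsg.Agent.Spor.Tia.L
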